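import Cfsg.Agent.Lib.FischerThm.Local
import Cfsg.Agent.Lib.ThreeTranspositions.Width
import Cfsg.Agent.Lib.ThreeTranspositions.QuatCentre

/-!
Node D of Fischer's theorem: with central local cores the local group modulo its centre is again
primitive, centreless, of width at least two, and smaller.

The graph arguments: the members commuting with `d` cannot split into two parts commuting with each
other, and two non-commuting ones have a common partner among them (a trace with an isolated point
consists of isolated points only).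
-/

set_option autoImplicit false
set_option linter.style.haveILetI false

namespace Cfsg.Agent.Lib.FischerThm.D

open Cfsg Cfsg.Agent.Lib.ThreeTranspositions
open Cfsg.Agent.Lib.FischerMTypes.Primitive (perp perp₂ SubsetEq conj_mem_perp_iff perp_closed
  noTwins_of_core)
open Cfsg.Agent.Lib.FischerMTypes.Basic (SameComm)

universe u

variable {G : Type u} [Group G]

/-- A group with central `p`-core has trivial `p`-core modulo its centre, if the quotient is
centreless. -/
theorem pCore_quotient_center [Finite G] {p : ℕ} [Fact p.Prime]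
    (h : Cfsg.pCore p G ≤ Subgroup.center G) : Cfsg.pCore p (G ⧸ Subgroup.center G) = ⊥ := by
  set π := QuotientGroup.mk' (Subgroup.center G) with hπ
  set N := (Cfsg.pCore p (G ⧸ Subgroup.center G)).comap π with hN
  haveI : N.Normal := Subgroup.Normal.comap inferInstance π
  let f : ↥N →* ↥(Cfsg.pCore p (G ⧸ Subgroup.center G)) := π.subgroupComap _
  haveI : Group.IsNilpotent ↥(Cfsg.pCore p (G ⧸ Subgroup.center G)) :=
    (Cores.pCore_isPGroup p).isNilpotent
  haveI : Group.IsNilpotent ↥N := Subgroup.isNilpotent_of_ker_le_center f (by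
    intro x hx
    have hx' : π (x : G) = 1 := congrArg Subtype.val hx
    have hxc : (x : G) ∈ Subgroup.center G := (QuotientGroup.eq_one_iff _).1 hx'
    exact Subgroup.mem_center_iff.2 fun y => Subtype.ext (Subgroup.mem_center_iff.1 hxc y))
  let P : Sylow p ↥N := default
  haveI : (P : Subgroup ↥N).Characteristic := P.characteristic_of_normal inferInstance
  haveI : ((P : Subgroup ↥N).map N.subtype).Normal := Cores.normal_map_subtype N P
  have hPle : (P : Subgroup ↥N).map N.subtype ≤ Subgroup.center G :=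
    (Cores.le_pCore (P.isPGroup'.map _)).trans h
  rw [eq_bot_iff]
  intro q hq
  obtain ⟨x, rfl⟩ := QuotientGroup.mk'_surjective _ q
  obtain ⟨k, hk⟩ := Cores.pCore_isPGroup (G := G ⧸ Subgroup.center G) p ⟨_, hq⟩
  have h1 : (π x) ^ p ^ k = 1 := congrArg Subtype.val hk
  have h2 : (π x) ^ (P : Subgroup ↥N).index = 1 := by
    rw [← map_pow]
    have hm : (⟨x, hq⟩ : ↥N) ^ (P : Subgroup ↥N).index ∈ (P : Subgroup ↥N) :=
      Subgroup.pow_index_mem _ _
    exact (QuotientGroup.eq_one_iff _).2 (hPle ⟨_, hm, rfl⟩)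
  have hco : Nat.Coprime (p ^ k) (P : Subgroup ↥N).index :=
    ((Nat.Prime.coprime_iff_not_dvd Fact.out).2 (Sylow.not_dvd_index P)).pow_left k
  have := pow_gcd_eq_one.2 ⟨h1, h2⟩
  rwa [hco, pow_one, ← Subgroup.mem_bot] at this

variable {D : Set G}

/-- One step of non-commutation inside `perp D d`. -/
def Step (D : Set G) (d y z : G) : Prop := y ∈ perp D d ∧ z ∈ perp D d ∧ ¬ Commute y z

/-- The part of `perp D d` reached from `y` by non-commutation. -/
def part (D : Set G) (d y : G) : Set G := {z | Relation.ReflTransGen (Step D d) y z}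

theorem part_sub {d y : G} (hy : y ∈ perp D d) : part D d y ⊆ perp D d := by
  intro z hz
  induction hz with
  | refl => exact hy
  | tail _ h _ => exact h.2.1

theorem part_symm {d y z : G} (h : z ∈ part D d y) : y ∈ part D d z :=
  by
  induction h with
  | refl => exact Relation.ReflTransGen.refl
  | tail _ h ih => exact ih.head ⟨h.2.1, h.1, fun hc => h.2.2 hc.symm⟩

section

variable [Finite G] (hP : Prim D)
include hP

theorem part_image (g d y : G) :
    (fun x => g * x * g⁻¹) '' part D d y ⊆ part D (g * d * g⁻¹) (g * y * g⁻¹) := by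
  rintro _ ⟨z, hz, rfl⟩
  induction hz with
  | refl => exact Relation.ReflTransGen.refl
  | @tail u v _ h ih =>
    exact ih.tail ⟨(conj_mem_perp_iff hP.hD g d u).2 h.1,
      (conj_mem_perp_iff hP.hD g d v).2 h.2.1, fun hc => h.2.2 ((Commute.conj_iff g).1 hc)⟩

theorem part_ncard {a b x y : G} (ha : a ∈ D) (hb : b ∈ perp D a) (hx : x ∈ D) (hy : y ∈ perp D x) :
    (part D a b).ncard ≤ (part D x y).ncard := by
  obtain ⟨g, rfl, rfl⟩ := hP.orb_near ha hb hx hy
  rw [← Set.ncard_image_of_injective (part D a b) (RankThree.conj_inj' g)]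
  exact Set.ncard_le_ncard (part_image hP g a b) (Set.toFinite _)

/-- The members commuting with `d` do not all commute pairwise. -/
theorem exists_apart {d : G} (hd : d ∈ D) : ∀ y ∈ perp D d, ∃ z ∈ perp D d, ¬ Commute y z := by
  intro y hy
  by_contra h
  push Not at h
  exact hy.2.1 (hP.subsetEq.of_perp hd hy.1 hy.2.2 fun x hx => (h x hx).symm).symm

/-- Non-commutation connects the members commuting with `d`. -/
theorem part_eq {d y : G} (hd : d ∈ D) (hy : y ∈ perp D d) : part D d y = perp D d := by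
  refine Set.Subset.antisymm (part_sub hy) ?_
  by_contra hne
  obtain ⟨x₀, hx₀, hx₀E⟩ := Set.not_subset.1 hne
  set E := part D d y with hE
  have hEd : E ⊆ perp D d := part_sub hy
  -- `z` sees `E` as one of its parts
  let A : G → Prop := fun z => z ∈ D ∧ E ⊆ perp D z ∧ part D z y = E
  have hA : ∀ z, A z → ∀ x ∈ perp D z, x ∉ E → A x := by
    rintro z ⟨hz, hEz, hpart⟩ x hx hxE
    have hEx : E ⊆ perp D x := fun e he => ⟨(hEz he).1, fun h => hxE (h ▸ he), by
      by_contra hn
      exact hxE (hpart ▸ Relation.ReflTransGen.tail (hpart ▸ he : e ∈ part D z y)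
        ⟨hEz he, hx, fun h => hn h.symm⟩)⟩
    refine ⟨hx.1, hEx, (Set.eq_of_subset_of_ncard_le (fun e he => ?_) ?_ (Set.toFinite _)).symm⟩
    · have key : ∀ e, Relation.ReflTransGen (Step D z) y e → Relation.ReflTransGen (Step D x) y e := by
        intro e he
        induction he with
        | refl => exact Relation.ReflTransGen.refl
        | @tail u v hu h ih =>
          exact ih.tail ⟨hEx (hpart ▸ hu), hEx (hpart ▸ hu.tail h), h.2.2⟩
      exact key e (show e ∈ part D z y by rw [hpart]; exact he)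
    · rw [← hpart]
      exact part_ncard hP hx.1 (hEx Relation.ReflTransGen.refl) hz (hEz Relation.ReflTransGen.refl)
  have hAd : A d := ⟨hd, hEd, rfl⟩
  have hAx : A x₀ := hA d hAd x₀ hx₀ hx₀E
  -- the members commuting with a member of `E` are those of `A`
  have key : ∀ e ∈ E, ∀ z ∈ perp D e, A z := by
    intro e he
    have heD : e ∈ D := (hEd he).1
    have hde : d ∈ perp D e := ⟨hd, (hEd he).2.1.symm, (hEd he).2.2.symm⟩
    have hxe : x₀ ∈ perp D e := ⟨hx₀.1, (hAx.2.1 he).2.1.symm, (hAx.2.1 he).2.2.symm⟩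
    have hor : ∀ z ∈ perp D e, A z ∨ z ∈ E := by
      intro z hz
      by_cases hzE : z ∈ E
      · exact Or.inr hzE
      left
      by_cases hzd : z = d
      · exact hzd ▸ hAd
      by_cases hc : Commute d z
      · exact hA d hAd z ⟨hz.1, hzd, hc⟩ hzE
      by_cases hzx : z = x₀
      · exact hzx ▸ hAx
      by_cases hcx : Commute x₀ z
      · exact hA x₀ hAx z ⟨hz.1, hzx, hcx⟩ hzE
      exfalso
      -- the part of `x₀` at `d` is its part at `e`
      have hsub : part D d x₀ ⊆ part D e x₀ := by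
        have hin : ∀ p ∈ part D d x₀, p ∈ perp D e := by
          intro p hp
          have hpd : p ∈ perp D d := part_sub hx₀ hp
          have hpE : p ∉ E := fun h => hx₀E (Relation.ReflTransGen.trans h (part_symm hp))
          exact ⟨hpd.1, fun h => hpE (h ▸ he), ((hA d hAd p hpd hpE).2.1 he).2.2.symm⟩
        intro p hp
        induction hp with
        | refl => exact Relation.ReflTransGen.refl
        | @tail u v hu h ih => exact ih.tail ⟨hin _ hu, hin _ (hu.tail h), h.2.2⟩
      have heq := Set.eq_of_subset_of_ncard_le hsub (part_ncard hP heD hxe hd hx₀) (Set.toFinite _)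
      have hdp : d ∈ part D e x₀ :=
        (Relation.ReflTransGen.single ⟨hxe, hz, hcx⟩).tail ⟨hz, hde, fun h => hc h.symm⟩
      rw [← heq] at hdp
      exact (part_sub hx₀ hdp).2.1 rfl
    intro z hz
    rcases hor z hz with h | h
    · exact h
    exfalso
    -- the part of `z` at `e` stays inside `E`, avoiding `e`
    have hsub : part D e z ⊆ E \ {e} := by
      intro p hp
      induction hp with
      | refl => exact ⟨h, hz.2.1⟩
      | @tail u v _ hs ih =>
        refine ⟨?_, hs.2.1.2.1⟩
        rcases hor v hs.2.1 with hv | hv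
        · exact absurd (hv.2.1 ih.1).2.2.symm hs.2.2
        · exact hv
    have h1 := Set.ncard_le_ncard hsub (Set.toFinite _)
    have h2 := part_ncard hP hd hy heD hz
    have h3 : (E \ {e}).ncard < E.ncard := Set.ncard_sdiff_singleton_lt_of_mem he (Set.toFinite _)
    rw [← hE] at h2
    omega
  obtain ⟨w, hw, hyw⟩ := exists_apart hP hd y hy
  have hyE : y ∈ E := Relation.ReflTransGen.refl
  have hwE : w ∈ E := Relation.ReflTransGen.single ⟨hy, hw, hyw⟩
  have hsame : ∀ {u v : G}, u ∈ E → v ∈ E → perp D u ⊆ perp D v := by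
    intro u v hu hv z hz
    obtain ⟨hzD, hEz, -⟩ := key u hu z hz
    exact ⟨hzD, (hEz hv).2.1.symm, (hEz hv).2.2.symm⟩
  refine hyw ?_
  rw [RankThree.eq_of_comSet hP.cls hP.modules hP.wall hy.1 hw.1
    (Set.Subset.antisymm (hsame hyE hwE) (hsame hwE hyE))]

/-- Non-commuting partners of `d` with a common partner among them exist only if all of them have one. -/
theorem common_of_common {d y y' w : G} (hd : d ∈ D) (hy : y ∈ perp D d) (hy' : y' ∈ perp D d)
    (hne : ¬ Commute y y') (hw : w ∈ perp D d) (h1 : Commute w y) (h2 : Commute w y') {z z' : G}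
    (hz : z ∈ perp D d) (hz' : z' ∈ perp D d) (hne' : ¬ Commute z z') :
    ∃ v ∈ perp D d, Commute v z ∧ Commute v z' := by
  obtain ⟨g, e1, e2⟩ := hP.orb_far hz.1 ⟨hz'.1, hne'⟩ hy.1 ⟨hy'.1, hne⟩
  set p := g * d * g⁻¹ with hp
  have hpD : p ∈ D := hP.hD.2.1 g d hd
  have hpy : y ∈ perp D p := e1 ▸ (conj_mem_perp_iff hP.hD g d z).2 hz
  have hpy' : y' ∈ perp D p := e2 ▸ (conj_mem_perp_iff hP.hD g d z').2 hz'
  suffices H : ∃ v ∈ perp D p, Commute v y ∧ Commute v y' by
    obtain ⟨v, hv, c1, c2⟩ := H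
    refine ⟨g⁻¹ * v * g, (conj_mem_perp_iff hP.hD g d _).1 ?_, ?_, ?_⟩
    · rwa [show g * (g⁻¹ * v * g) * g⁻¹ = v by group]
    · rw [← Commute.conj_iff g, e1, show g * (g⁻¹ * v * g) * g⁻¹ = v by group]; exact c1
    · rw [← Commute.conj_iff g, e2, show g * (g⁻¹ * v * g) * g⁻¹ = v by group]; exact c2
  by_contra hno
  simp only [not_exists, not_and] at hno
  have hS := hP.hD.1
  have hdp : ¬ Commute p d := by
    intro hc
    by_cases h : d = p
    · exact hno w (h ▸ hw) h1 h2
    · exact hno d ⟨hd, h, hc⟩ hy.2.2 hy'.2.2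
  have hb := braid hS hpD hd hdp
  set r := p * d with hr
  have hrd : r * p * r⁻¹ = d := by
    rw [hr, mul_inv_rev, inv_eq hS hd, inv_eq hS hpD]
    calc p * d * p * (d * p) = (d * p * d) * (d * p) := by rw [hb]
      _ = d * p * (d * d) * p := by group
      _ = d * (p * p) := by rw [mul_self hS hd, mul_one, mul_assoc]
      _ = d := by rw [mul_self hS hpD, mul_one]
  have hry : ∀ u, Commute p u → Commute d u → r⁻¹ * u * r = u := by
    intro u c1 c2
    rw [mul_assoc, ← (c1.mul_left c2).eq, ← hr, inv_mul_cancel_left]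
  have hv : r⁻¹ * w * r ∈ perp D p := by
    rw [← conj_mem_perp_iff hP.hD r p, hrd, show r * (r⁻¹ * w * r) * r⁻¹ = w by group]
    exact hw
  refine hno _ hv ?_ ?_
  · rw [← hry y hpy.2.2 hy.2.2]
    simpa using (Commute.conj_iff r⁻¹).2 h1
  · rw [← hry y' hpy'.2.2 hy'.2.2]
    simpa using (Commute.conj_iff r⁻¹).2 h2

/-- Commuting is not an equivalence on the members commuting with `d`, unless no two of them commute. -/
theorem exists_path (hL : LocalCores D) {d : G} (hd : d ∈ D) {x x' : G} (hx : x ∈ perp D d)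
    (hx' : x' ∈ perp D d) (hne : x ≠ x') (hc : Commute x x') {z z' : G}
    (hz : z ∈ perp D d) (hz' : z' ∈ perp D d) (hne' : ¬ Commute z z') :
    ∃ v ∈ perp D d, Commute v z ∧ Commute v z' := by
  by_contra hno
  refine hne (noTwins_of_core hP.hD hP.hprim hP.hZ hd (hL d hd).1 x hx x' hx' fun e he => ?_)
  have trans : ∀ a b c : G, a ∈ perp D d → b ∈ perp D d → c ∈ perp D d → Commute a b → Commute b c →
      Commute a c := fun a b c ha hb hc' h h' => by
    by_contra hn
    exact hno (common_of_common hP hd ha hc' hn hb h.symm h' hz hz' hne')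
  exact ⟨fun h => trans e x x' he hx hx' h hc, fun h => trans e x' x he hx' hx h hc.symm⟩

/-- Members commuting with `d` are conjugate under the local group. -/
theorem perp_conjugate {d x y : G} (hd : d ∈ D) (hx : x ∈ perp D d) (hy : y ∈ perp D d) :
    ∃ h ∈ Hd D d, h * x * h⁻¹ = y := by
  have hy' : y ∈ part D d x := (part_eq hP hd hx).symm ▸ hy
  clear hy
  induction hy' with
  | refl => exact ⟨1, one_mem _, by group⟩
  | @tail u v _ h ih =>
    obtain ⟨k, hk, hku⟩ := ih
    refine ⟨u * v * k, mul_mem (mul_mem (Subgroup.subset_closure h.1) (Subgroup.subset_closure h.2.1)) hk, ?_⟩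
    have hS := hP.hD.1
    rw [show u * v * k * x * (u * v * k)⁻¹ = u * v * (k * x * k⁻¹) * (v⁻¹ * u⁻¹) by group, hku,
      inv_eq hS h.2.1.1, inv_eq hS h.1.1, show u * v * u * (v * u) = (u * v * u) * (v * u) by group,
      braid hS h.1.1 h.2.1.1 h.2.2]
    calc v * u * v * (v * u) = v * u * (v * v) * u := by group
      _ = v := by rw [mul_self hS h.2.1.1, mul_one, mul_assoc, mul_self hS h.1.1, mul_one]

end

/-- The local class with central cores. -/
theorem nodeD : NodeD.{u} := by
  intro G _ _ D hP hL d hd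
  have hgrp := hP.perpClass_group hd
  have hC' := isClosedSet_of_group hgrp
  set H := Hd D d with hH
  set Z := Subgroup.center ↥H with hZdef
  set D' := perpClass D d with hD'
  have hmem : ∀ {y : G} (hy : y ∈ perp D d),
      (QuotientGroup.mk (⟨y, Subgroup.subset_closure hy⟩ : ↥H) : ↥H ⧸ Z) ∈ D' :=
    fun hy => ⟨_, hy, rfl⟩
  have hcomm : ∀ {x y : G} (hx : x ∈ perp D d) (hy : y ∈ perp D d),
      Commute (QuotientGroup.mk (⟨x, Subgroup.subset_closure hx⟩ : ↥H) : ↥H ⧸ Z)
        (QuotientGroup.mk (⟨y, Subgroup.subset_closure hy⟩ : ↥H)) ↔ Commute x y :=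
    fun hx hy => FischerMTypes.Unique.im_commute_iff hP.hD hx hy
  have hinj : ∀ {x y : G} (hx : x ∈ perp D d) (hy : y ∈ perp D d),
      (QuotientGroup.mk (⟨x, Subgroup.subset_closure hx⟩ : ↥H) : ↥H ⧸ Z) =
        QuotientGroup.mk (⟨y, Subgroup.subset_closure hy⟩ : ↥H) → x = y :=
    fun hx hy h => FischerMTypes.Unique.im_injective' hP.hD hP.subsetEq hd hx hy h
  obtain ⟨y₀, hy₀⟩ : (perp D d).Nonempty := by
    obtain ⟨b, hb, h1, h2⟩ := hP.wall d hd
    exact ⟨b, hb, h1, h2⟩
  obtain ⟨y₁, hy₁, hy01⟩ := exists_apart hP hd y₀ hy₀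
  -- centre
  have hcen : Subgroup.center (↥H ⧸ Z) = ⊥ := by
    rw [eq_bot_iff]
    intro q hq
    obtain ⟨g, rfl⟩ := QuotientGroup.mk_surjective q
    rw [Subgroup.mem_bot, QuotientGroup.eq_one_iff, hZdef, Subgroup.mem_center_iff]
    intro y
    apply Subtype.ext
    have hy : (y : G) ∈ Subgroup.closure (perp D d) := y.2
    rw [Subgroup.coe_mul, Subgroup.coe_mul]
    generalize (y : G) = z at hy ⊢
    induction hy using Subgroup.closure_induction with
    | mem z hz =>
      obtain ⟨w, hw, hwe⟩ := hgrp.2.1 (QuotientGroup.mk g) _ (hmem hz)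
      have hgz : (g : G) * z * (g : G)⁻¹ ∈ perp D d := by
        have hgd : (g : G) * d * (g : G)⁻¹ = d := by
          have hle : H ≤ Subgroup.centralizer ({d} : Set G) := by
            rw [hH]
            show Subgroup.closure (perp D d) ≤ _
            rw [Subgroup.closure_le]
            intro u hu
            exact Subgroup.mem_centralizer_singleton_iff.2 hu.2.2.eq.symm
          rw [Subgroup.mem_centralizer_singleton_iff.1 (hle g.2), mul_inv_cancel_right]
        have := (conj_mem_perp_iff hP.hD (g : G) d z).2 hz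
        rwa [hgd] at this
      have heq : (g : G) * z * (g : G)⁻¹ = z := hinj hgz hz (by
        have hcq := Subgroup.mem_center_iff.1 hq
          (QuotientGroup.mk (⟨z, Subgroup.subset_closure hz⟩ : ↥H))
        rw [show (⟨(g : G) * z * (g : G)⁻¹, Subgroup.subset_closure hgz⟩ : ↥H) =
          g * ⟨z, Subgroup.subset_closure hz⟩ * g⁻¹ from rfl, QuotientGroup.mk_mul, QuotientGroup.mk_mul,
          QuotientGroup.mk_inv, ← hcq, mul_inv_cancel_right])
      exact (mul_inv_eq_iff_eq_mul.1 heq).symm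
    | one => simp
    | mul u v _ _ h1 h2 =>
      exact (Commute.mul_left (show Commute u (g : G) from h1) (show Commute v (g : G) from h2)).eq
    | inv u _ h1 => exact (Commute.inv_left (show Commute u (g : G) from h1)).eq
  -- the class
  have htrans : ∀ a ∈ D', ∀ b ∈ D', ∃ q : ↥H ⧸ Z, q * a * q⁻¹ = b := by
    rintro _ ⟨x, hx, rfl⟩ _ ⟨y, hy, rfl⟩
    obtain ⟨h, hh, e⟩ := perp_conjugate hP hd hx hy
    exact ⟨QuotientGroup.mk ⟨h, hh⟩, by
      rw [← QuotientGroup.mk_mul, ← QuotientGroup.mk_inv, ← QuotientGroup.mk_mul]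
      exact congrArg QuotientGroup.mk (Subtype.ext e)⟩
  have hcls : IsThreeTranspositionClass D' := by
    refine ⟨hgrp.1, ⟨_, hmem hy₀, Set.ext fun q => ⟨fun hq => isConj_iff.2 (htrans _ (hmem hy₀) q hq), fun hq => ?_⟩⟩,
      hgrp.2.2⟩
    obtain ⟨k, rfl⟩ := isConj_iff.1 hq
    exact hgrp.2.1 k _ (hmem hy₀)
  -- cores
  haveI : Fact (Nat.Prime 2) := ⟨Nat.prime_two⟩
  haveI : Fact (Nat.Prime 3) := ⟨Nat.prime_three⟩
  have h2 : Cfsg.pCore 2 (↥H ⧸ Z) = ⊥ := pCore_quotient_center (hL d hd).1
  have h3 : Cfsg.pCore 3 (↥H ⧸ Z) = ⊥ := pCore_quotient_center (hL d hd).2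
  -- width
  obtain ⟨x, hx, x', hx', hne, hc⟩ : ∃ x ∈ perp D d, ∃ x' ∈ perp D d, x ≠ x' ∧ Commute x x' := by
    by_contra hno
    simp only [not_exists, not_and] at hno
    have hw1 : ∀ a ∈ D', ∀ b ∈ D', Commute a b → a = b := by
      rintro _ ⟨a, ha, rfl⟩ _ ⟨b, hb, rfl⟩ hab
      by_contra hne
      exact hno a ha b hb (fun h => hne (by rw [Subtype.ext h])) ((hcomm ha hb).1 hab)
    have := width_one_mul_mem quaternionCentre hC' hw1 (hmem hy₀) (hmem hy₁)
    rw [h3, Subgroup.mem_bot, mul_eq_one_iff_eq_inv,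
      inv_eq hgrp.1 (hmem hy₁)] at this
    exact hy01 (hinj hy₀ hy₁ this ▸ Commute.refl y₀)
  have hw : ∃ a ∈ D', ∃ b ∈ D', a ≠ b ∧ Commute a b :=
    ⟨_, hmem hx, _, hmem hx', fun h => hne (hinj hx hx' h), (hcomm hx hx').2 hc⟩
  -- connectedness
  have hconn : (commutingGraph D').Connected := by
    haveI : Nonempty D' := ⟨⟨_, hmem hy₀⟩⟩
    refine ⟨?_⟩
    rintro ⟨_, a, ha, rfl⟩ ⟨_, b, hb, rfl⟩
    have adj : ∀ {u v : G} (hu : u ∈ perp D d) (hv : v ∈ perp D d), Commute u v →
        (commutingGraph D').Reachable ⟨_, hmem hu⟩ ⟨_, hmem hv⟩ := by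
      intro u v hu hv h
      by_cases he : u = v
      · subst he; exact .refl _
      · exact SimpleGraph.Adj.reachable
          ⟨fun h' => he (hinj hu hv (congrArg Subtype.val h')), Or.inl ((hcomm hu hv).2 h)⟩
    by_cases hab : Commute (a : G) b
    · exact adj ha hb hab
    · obtain ⟨v, hv, c1, c2⟩ := exists_path hP hL hd hx hx' hne hc ha hb hab
      exact (adj ha hv c1.symm).trans (adj hv hb c2)
  have hD2 : ∃ a ∈ D', ∃ b ∈ D', a ≠ b := by
    obtain ⟨a, ha, b, hb, hab, -⟩ := hw
    exact ⟨a, ha, b, hb, hab⟩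
  have hprim : IsPrimitiveUnderConj D' := by
    have h2' : Cfsg.pCore 2 (↥H ⧸ Z) ≤ Subgroup.center _ := h2 ▸ bot_le
    have h3' : Cfsg.pCore 3 (↥H ⧸ Z) ≤ Subgroup.center _ := h3 ▸ bot_le
    obtain ⟨L, hLn, hLc, -, hF⟩ := exists_component hcls hD2 h2' h3'
    haveI := hLn
    exact isPrimitive_of_index_le_two hcls hD2 h2' h3' hLc.2 hF
      (index_le_two_of_connected hcls (hmem hy₀) hLc.2 hconn)
  refine ⟨⟨hgrp, hprim, hcen, ?_⟩, ?_⟩
  · obtain ⟨a, ha, b, hb, hab, h⟩ := hw
    exact ⟨a, ha, b, hb, hab.symm, h⟩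
  · refine lt_of_le_of_lt (Nat.card_le_card_of_surjective _ (QuotientGroup.mk_surjective (s := Z))) ?_
    have hne : H ≠ ⊤ := by
      intro htop
      apply not_mem_center (class_of_primitive hP.hD hP.hprim) hP.hprim.2.1 hd
      refine mem_center_of_commute_gen (D := perp D d) ?_ fun e he => he.2.2
      rw [← htop, hH]
    exact lt_of_le_of_ne (Subgroup.card_le_card_group H) fun h => hne ((Subgroup.card_eq_iff_eq_top H).1 h)

end Cfsg.Agent.Lib.FischerThm.D
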